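import Groth.Agent.Lib.CharExt23.Scheme
import Mathlib.GroupTheory.FiniteAbelian.Basic
import Mathlib.GroupTheory.Index
import Mathlib.RingTheory.Noetherian.Basic

/-!
# Restriction of characters to a closed subgroup has finite cokernel
-/

set_option autoImplicit false
set_option linter.style.haveILetI false
set_option backward.isDefEq.respectTransparency.types false
universe u

open CategoryTheory MonObj AlgebraicGeometry
open scoped TensorProduct

namespace Groth.Agent.CharExt23

noncomputable section

/-- A subgroup with torsion quotient in a group embedded into a finitely generated one has finite index. -/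
theorem finiteIndex_of_torsion {M N : Type*} [AddCommGroup M] [AddCommGroup N] (R : AddSubgroup M) (e : M →+ N)
    (he : Function.Injective e) (U : AddSubgroup N) (hU : U.FG) (hmem : ∀ x, e x ∈ U)
    (htor : ∀ x, ∃ n, 0 < n ∧ n • x ∈ R) : R.FiniteIndex := by
  haveI : Module.Finite ℤ U :=
    (Module.Finite.iff_addGroup_fg (G := U)).2 ((AddGroup.fg_iff_addSubgroup_fg U).2 hU)
  haveI : IsNoetherian ℤ U := isNoetherian_of_isNoetherianRing_of_finite ℤ U
  haveI : Module.Finite ℤ M := Module.Finite.of_injective (AddMonoidHom.toIntLinearMap (e.codRestrict U hmem))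
    fun x y h => he (congrArg Subtype.val h)
  haveI : AddGroup.FG M := Module.Finite.iff_addGroup_fg.1 ‹_›
  haveI : Finite (M ⧸ R) := AddCommGroup.finite_of_fg_isAddTorsion (M ⧸ R) fun q => by
    obtain ⟨x, rfl⟩ := QuotientAddGroup.mk_surjective q
    obtain ⟨n, hn, hx⟩ := htor x
    refine isOfFinAddOrder_iff_nsmul_eq_zero.2 ⟨n, hn, ?_⟩
    rw [← QuotientAddGroup.mk_nsmul, QuotientAddGroup.eq_zero_iff]
    exact hx
  exact AddSubgroup.finiteIndex_of_finite_quotient

variable {k : Type u} [Field k]
variable {H G : Over (Spec (CommRingCat.of k))} [GrpObj H] [IsCommMonObj H] [GrpObj G] [IsCommMonObj G]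
variable {A B : Type u} [CommRing A] [HopfAlgebra k A] [Algebra.FiniteType k A] [Coalgebra.IsCocomm k A]
  [CommRing B] [HopfAlgebra k B]

/-- The image of restriction of characters has finite index. -/
theorem finiteIndex (eA : CoactBr.sp k A ≅ G) [IsMonHom eA.hom] (eB : CoactBr.sp k B ≅ H) [IsMonHom eB.hom]
    (i : H ⟶ G) [IsMonHom i] (f : A →ₐc[k] B) (hf : Function.Surjective f)
    (hpt : eB.hom ≫ i ≫ eA.inv = CoactBr.pt (f : A →ₐ[k] B)) :
    (Preadditive.leftComp (CGrpSh2.Gm Scheme.fppfPrecoverage (Spec (CommRingCat.of k)))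
      (CGrpSh.ptsMap Scheme.fppfPrecoverage i)).range.FiniteIndex := by
  let M := CGrpSh.pts Scheme.fppfPrecoverage H ⟶ CGrpSh2.Gm Scheme.fppfPrecoverage (Spec (CommRingCat.of k))
  let b : M → B := fun σ => fn (eB.hom ≫ homOf σ)
  have hb : ∀ σ, IsGroupLikeElem k (b σ) := fun σ => groupLike_fn _
  have hadd : ∀ σ τ, b (σ + τ) = b σ * b τ := fun σ τ => by
    show fn (eB.hom ≫ (homOf σ * homOf τ)) = _
    rw [MonObj.comp_mul, fn_mul]
  obtain ⟨U, hU, hmem⟩ := exists_fg f hf
  let inc := (Algebra.TensorProduct.includeRight : B →ₐ[k] AlgebraicClosure k ⊗[k] B)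
  let e : M →+ Additive (AlgebraicClosure k ⊗[k] B)ˣ :=
    AddMonoidHom.mk' (fun σ => Additive.ofMul (Units.map inc.toMonoidHom (hb σ).isUnit.unit)) fun σ τ =>
      Additive.toMul.injective (Units.ext (by
        show inc (b (σ + τ)) = inc (b σ) * inc (b τ)
        rw [hadd, map_mul]))
  have hinj : Function.Injective b := fun σ τ h =>
    homOf_injective ((cancel_epi eB.hom).1 (fn_injective h))
  have he : Function.Injective e := fun σ τ h => hinj
    (Algebra.TensorProduct.includeRight_injective (B := B) (algebraMap k (AlgebraicClosure k)).injective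
      (congrArg Units.val (Additive.ofMul.injective h)))
  refine finiteIndex_of_torsion _ e he U.toAddSubgroup ((Subgroup.fg_iff_add_fg U).1 hU)
    (fun σ => hmem (b σ) (hb σ) _ rfl) fun σ => ?_
  obtain ⟨n, hn, χ, hχ, hfχ⟩ := exists_pow_lift f hf (hb σ)
  refine ⟨n, hn, ?_⟩
  have hpow : ∀ m : ℕ, b (m • σ) = b σ ^ m := fun m => by
    induction m with
    | zero =>
      rw [zero_nsmul, pow_zero]
      refine (hb 0).isUnit.mul_left_cancel (b := b 0) ?_
      rw [← hadd, add_zero, _root_.mul_one]
    | succ m ih => rw [succ_nsmul, hadd, ih, pow_succ]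
  obtain ⟨τ, hτ⟩ := exists_preimage eA eB i f hpt (n • σ) hχ (hfχ.trans (hpow n).symm)
  exact ⟨τ, hτ⟩

omit [HopfAlgebra k B] [CommRing B] in
/-- The character group of an affine commutative group scheme of finite type is finitely generated. -/
theorem fg_characters (eA : CoactBr.sp k A ≅ G) [IsMonHom eA.hom] :
    AddGroup.FG (CGrpSh.pts Scheme.fppfPrecoverage G ⟶
      CGrpSh2.Gm Scheme.fppfPrecoverage (Spec (CommRingCat.of k))) := by
  let M := CGrpSh.pts Scheme.fppfPrecoverage G ⟶ CGrpSh2.Gm Scheme.fppfPrecoverage (Spec (CommRingCat.of k))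
  let b : M → A := fun σ => fn (eA.hom ≫ homOf σ)
  have hb : ∀ σ, IsGroupLikeElem k (b σ) := fun σ => groupLike_fn _
  obtain ⟨U, hU, hmem⟩ := exists_fg (BialgHom.id k A) fun a => ⟨a, rfl⟩
  let inc := (Algebra.TensorProduct.includeRight : A →ₐ[k] AlgebraicClosure k ⊗[k] A)
  let e : M →+ Additive (AlgebraicClosure k ⊗[k] A)ˣ :=
    AddMonoidHom.mk' (fun σ => Additive.ofMul (Units.map inc.toMonoidHom (hb σ).isUnit.unit)) fun σ τ =>
      Additive.toMul.injective (Units.ext (by
        show inc (fn (eA.hom ≫ (homOf σ * homOf τ))) = inc (b σ) * inc (b τ)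
        rw [MonObj.comp_mul, fn_mul, map_mul]))
  have he : Function.Injective e := fun σ τ h =>
    homOf_injective ((cancel_epi eA.hom).1 (fn_injective
      (Algebra.TensorProduct.includeRight_injective (B := A) (algebraMap k (AlgebraicClosure k)).injective
        (congrArg Units.val (Additive.ofMul.injective h)))))
  haveI : Module.Finite ℤ U.toAddSubgroup :=
    (Module.Finite.iff_addGroup_fg (G := U.toAddSubgroup)).2
      ((AddGroup.fg_iff_addSubgroup_fg U.toAddSubgroup).2 ((Subgroup.fg_iff_add_fg U).1 hU))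
  haveI : IsNoetherian ℤ U.toAddSubgroup := isNoetherian_of_isNoetherianRing_of_finite ℤ _
  haveI : Module.Finite ℤ M := Module.Finite.of_injective
    (AddMonoidHom.toIntLinearMap (e.codRestrict U.toAddSubgroup fun σ => hmem (b σ) (hb σ) _ rfl))
    fun x y h => he (congrArg Subtype.val h)
  exact Module.Finite.iff_addGroup_fg.1 ‹_›

end

end Groth.Agent.CharExt23
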